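import Cfsg.Agent.Lib.F6.A1
import Cfsg.Agent.Lib.Calc.CjT
import Cfsg.Agent.Lib.EqX.Fm

/-!
# Classes of involutions in the affine model (generated) (helper22)
-/

set_option autoImplicit false
set_option linter.unusedSectionVars false
set_option maxRecDepth 100000

namespace Cfsg.Lib.F6

open Subgroup Cfsg.Lib.RI Cfsg.Lib.SzS Cfsg.Lib.SzV Cfsg.Lib.BG Cfsg.Lib.Pres Cfsg.Lib.Calc Cfsg.Lib.T2 Cfsg.Lib.F2 Cfsg.Lib.Grp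
open Cfsg.Lib.T3 hiding cj
open Cfsg.Lib.A16 hiding holds_iff
open scoped Cfsg.Lib.Transfer

universe u

def ct0 : CT := .node (.l 4) (.node (.l 5) (.node (.l 3) (.node (.l 6) (.node (.l 9) (.node (.l 10) (.cons (.l 0) (.l 0) (.cons (.l 2) (.l 0) .nil)) (.cons (.mul (.l 2) (.l 8)) (.mul (.mul (.l 26) (.l 21)) (.l 11)) (.cons (.l 8) (.mul (.mul (.l 26) (.l 21)) (.l 11)) .nil))) (.node (.l 10) (.cons (.l 8) (.l 0) (.cons (.mul (.l 2) (.l 8)) (.l 0) .nil)) (.cons (.l 8) (.mul (.mul (.l 27) (.l 20)) (.l 11)) (.cons (.mul (.l 2) (.l 8)) (.mul (.mul (.l 27) (.l 20)) (.l 11)) .nil)))) (.node (.l 9) (.node (.l 10) (.cons (.l 8) (.mul (.l 12) (.l 20)) (.cons (.mul (.l 2) (.l 8)) (.mul (.l 12) (.l 20)) .nil)) (.cons (.mul (.l 2) (.l 8)) (.mul (.l 13) (.l 21)) (.cons (.l 8) (.mul (.l 13) (.l 21)) .nil))) (.node (.l 10) (.cons (.mul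 (.l 2) (.l 8)) (.mul (.l 20) (.l 11)) (.cons (.l 8) (.mul (.l 20) (.l 11)) .nil)) (.cons (.l 8) (.mul (.l 21) (.l 11)) (.cons (.mul (.l 2) (.l 8)) (.mul (.l 21) (.l 11)) .nil))))) (.node (.l 6) (.node (.l 9) (.node (.l 10) (.cons (.l 8) (.mul (.l 16) (.l 22)) (.cons (.mul (.l 2) (.l 8)) (.mul (.l 16) (.l 22)) .nil)) (.cons (.mul (.l 2) (.l 8)) (.mul (.l 26) (.l 25)) (.cons (.l 8) (.mul (.l 26) (.l 25)) .nil))) (.node (.l 10) (.cons (.l 8) (.l 22) (.cons (.mul (.l 2) (.l 8)) (.l 22) .nil)) (.cons (.mul (.l 2) (.l 8)) (.mul (.mul (.l 25) (.l 20)) (.l 11)) (.cons (.l 8) (.mul (.mul (.l 25) (.l 20)) (.l 11)) .nil)))) (.node (.l 9) (.node (.l 10) (.cons (.l 8) (.mul (.l 15) (.l 22)) (.cons (.mul (.l 2) (.l 8)) (.mul (.l 15) (.l 22)) .nil)) (.cons (.l 8) (.mul (.l 15) (.l 25)) (.cons (.mul (.l 2) (.l 8)) (.mul (.l 15) (.l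 25)) .nil))) (.node (.l 10) (.cons (.l 8) (.mul (.l 21) (.l 20)) (.cons (.mul (.l 2) (.l 8)) (.mul (.l 21) (.l 20)) .nil)) (.cons (.l 8) (.l 25) (.cons (.mul (.l 2) (.l 8)) (.l 25) .nil)))))) (.node (.l 7) (.node (.l 6) (.node (.l 10) (.node (.l 11) (.cons (.l 2) (.mul (.mul (.mul (.mul (.l 5) (.l 23)) (.l 8)) (.l 2)) (.l 23)) .nil) (.node (.mul (.l 9) (.l 12)) (.cons (.l 2) (.mul (.mul (.mul (.l 23) (.l 8)) (.l 2)) (.l 23)) .nil) (.cons (.l 8) (.mul (.mul (.mul (.l 23) (.l 8)) (.l 2)) (.l 23)) (.cons (.l 8) (.mul (.mul (.mul (.mul (.l 5) (.l 23)) (.l 8)) (.l 2)) (.l 23)) .nil)))) (.cons (.mul (.l 2) (.l 15)) (.mul (.mul (.mul (.mul (.mul (.l 23) (.l 7)) (.l 23)) (.l 4)) (.l 2)) (.l 23)) (.cons (.mul (.l 2) (.l 15)) (.mul (.mul (.mul (.mul (.mul (.l 5) (.l 23)) (.l 4)) (.l 27)) (.l 8)) (.l 23)) (.cons (.mul (.l 2) (.l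 15)) (.mul (.mul (.mul (.mul (.mul (.mul (.l 23) (.l 4)) (.l 20)) (.l 2)) (.l 23)) (.l 22)) (.l 4)) (.cons (.mul (.l 2) (.l 15)) (.mul (.mul (.mul (.mul (.l 23) (.l 4)) (.l 27)) (.l 8)) (.l 23)) .nil))))) (.node (.l 10) (.cons (.mul (.l 2) (.l 15)) (.mul (.mul (.mul (.mul (.l 23) (.l 7)) (.l 4)) (.l 2)) (.l 23)) (.cons (.mul (.l 2) (.l 15)) (.mul (.mul (.mul (.mul (.mul (.l 23) (.l 8)) (.l 20)) (.l 2)) (.l 23)) (.l 4)) (.cons (.mul (.l 2) (.l 15)) (.mul (.mul (.mul (.mul (.mul (.l 5) (.l 23)) (.l 7)) (.l 4)) (.l 2)) (.l 23)) (.cons (.mul (.l 2) (.l 15)) (.mul (.mul (.mul (.mul (.mul (.l 23) (.l 20)) (.l 8)) (.l 2)) (.l 23)) (.l 12)) .nil)))) (.cons (.mul (.l 2) (.l 15)) (.mul (.mul (.mul (.mul (.mul (.l 23) (.l 4)) (.l 23)) (.l 7)) (.l 2)) (.l 23)) (.cons (.mul (.l 2) (.l 15)) (.mul (.mul (.mul (.mul (.mul (.mul (.l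 5) (.l 23)) (.l 15)) (.l 4)) (.l 27)) (.l 8)) (.l 23)) (.cons (.mul (.l 2) (.l 15)) (.mul (.mul (.mul (.mul (.mul (.mul (.l 5) (.l 23)) (.l 4)) (.l 23)) (.l 7)) (.l 2)) (.l 23)) (.cons (.mul (.l 2) (.l 15)) (.mul (.mul (.mul (.mul (.mul (.l 23) (.l 15)) (.l 4)) (.l 27)) (.l 8)) (.l 23)) .nil)))))) (.node (.mul (.l 11) (.l 12)) (.node (.l 11) (.cons (.mul (.l 2) (.l 8)) (.mul (.mul (.mul (.mul (.l 7) (.l 23)) (.l 4)) (.l 2)) (.l 23)) (.cons (.l 8) (.mul (.mul (.mul (.mul (.mul (.mul (.l 5) (.l 23)) (.l 8)) (.l 20)) (.l 2)) (.l 23)) (.l 22)) .nil)) (.node (.mul (.l 10) (.l 12)) (.cons (.mul (.l 2) (.l 8)) (.mul (.mul (.mul (.l 23) (.l 4)) (.l 2)) (.l 23)) (.cons (.l 8) (.mul (.mul (.mul (.mul (.mul (.mul (.l 15) (.l 5)) (.l 23)) (.l 8)) (.l 21)) (.l 2)) (.l 23)) .nil)) (.cons (.mul (.l 2) (.l 15)) (.mul (.mul (.mul (.mul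 (.mul (.l 23) (.l 4)) (.l 27)) (.l 2)) (.l 23)) (.l 5)) (.cons (.mul (.l 2) (.l 15)) (.mul (.mul (.l 27) (.l 20)) (.l 11)) (.cons (.mul (.l 2) (.l 15)) (.mul (.mul (.mul (.mul (.mul (.l 23) (.l 8)) (.l 20)) (.l 2)) (.l 23)) (.l 22)) (.cons (.mul (.l 2) (.l 15)) (.mul (.mul (.mul (.l 27) (.l 20)) (.l 11)) (.l 5)) .nil)))))) (.node (.mul (.l 9) (.l 13)) (.cons (.l 8) (.mul (.mul (.mul (.mul (.mul (.l 26) (.l 23)) (.l 8)) (.l 21)) (.l 2)) (.l 23)) (.cons (.mul (.l 2) (.l 8)) (.mul (.mul (.mul (.mul (.l 5) (.l 23)) (.l 4)) (.l 2)) (.l 23)) .nil)) (.cons (.mul (.l 2) (.l 15)) (.mul (.mul (.mul (.mul (.l 23) (.l 4)) (.l 27)) (.l 2)) (.l 23)) (.cons (.mul (.l 2) (.l 8)) (.mul (.mul (.mul (.mul (.mul (.l 23) (.l 8)) (.l 20)) (.l 2)) (.l 23)) (.l 22)) (.cons (.mul (.l 2) (.l 15)) (.mul (.mul (.mul (.l 27) (.l 12)) (.l 20)) (.l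 4)) (.cons (.mul (.l 2) (.l 15)) (.mul (.mul (.mul (.l 27) (.l 20)) (.l 11)) (.l 4)) (.cons (.mul (.l 2) (.l 15)) (.mul (.mul (.mul (.mul (.mul (.l 7) (.l 23)) (.l 4)) (.l 27)) (.l 2)) (.l 23)) (.cons (.l 8) (.mul (.mul (.mul (.mul (.mul (.l 23) (.l 8)) (.l 20)) (.l 2)) (.l 23)) (.l 22)) .nil)))))))))) (.node (.l 15) (.node (.mul (.l 11) (.l 20)) (.node (.l 9) (.node (.l 11) (.cons (.l 2) (.mul (.mul (.mul (.mul (.mul (.l 4) (.l 23)) (.l 7)) (.l 4)) (.l 2)) (.l 23)) .nil) (.node (.mul (.l 6) (.l 14)) (.cons (.l 2) (.mul (.mul (.mul (.mul (.l 23) (.l 7)) (.l 4)) (.l 2)) (.l 23)) .nil) (.cons (.l 8) (.mul (.mul (.mul (.mul (.mul (.l 23) (.l 12)) (.l 20)) (.l 8)) (.l 2)) (.l 23)) (.cons (.l 8) (.mul (.mul (.mul (.mul (.mul (.mul (.l 4) (.l 23)) (.l 12)) (.l 20)) (.l 8)) (.l 2)) (.l 23)) .nil)))) (.node (.l 11) (.cons (.l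 8) (.mul (.mul (.mul (.mul (.mul (.l 4) (.l 23)) (.l 7)) (.l 4)) (.l 2)) (.l 23)) (.cons (.mul (.l 2) (.l 8)) (.mul (.mul (.mul (.mul (.mul (.l 4) (.l 23)) (.l 7)) (.l 4)) (.l 2)) (.l 23)) .nil)) (.node (.mul (.l 9) (.l 14)) (.cons (.l 8) (.mul (.mul (.mul (.mul (.mul (.l 5) (.l 23)) (.l 7)) (.l 4)) (.l 2)) (.l 23)) (.cons (.mul (.l 2) (.l 8)) (.mul (.mul (.mul (.mul (.mul (.l 23) (.l 8)) (.l 2)) (.l 23)) (.l 12)) (.l 20)) .nil)) (.node (.mul (.l 11) (.l 12)) (.cons (.mul (.l 2) (.l 15)) (.mul (.mul (.mul (.mul (.mul (.l 23) (.l 8)) (.l 20)) (.l 2)) (.l 23)) (.l 5)) .nil) (.cons (.mul (.l 2) (.l 15)) (.mul (.l 12) (.l 11)) (.cons (.mul (.l 2) (.l 15)) (.mul (.mul (.l 12) (.l 11)) (.l 5)) (.cons (.mul (.l 2) (.l 15)) (.mul (.mul (.mul (.mul (.mul (.l 23) (.l 7)) (.l 4)) (.l 12)) (.l 2)) (.l 23)) .nil))))))) (.node (.l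 5) (.node (.l 22) (.node (.l 11) (.cons (.l 2) (.mul (.mul (.mul (.mul (.mul (.l 27) (.l 7)) (.l 23)) (.l 4)) (.l 2)) (.l 23)) .nil) (.node (.mul (.l 6) (.l 14)) (.cons (.l 2) (.mul (.mul (.mul (.mul (.l 27) (.l 23)) (.l 4)) (.l 2)) (.l 23)) .nil) (.cons (.l 8) (.mul (.mul (.mul (.mul (.l 23) (.l 2)) (.l 20)) (.l 8)) (.l 23)) (.cons (.l 8) (.mul (.mul (.mul (.mul (.mul (.l 4) (.l 23)) (.l 2)) (.l 20)) (.l 8)) (.l 23)) .nil)))) (.cons (.mul (.l 2) (.l 15)) (.mul (.mul (.mul (.mul (.l 23) (.l 8)) (.l 12)) (.l 2)) (.l 23)) (.cons (.mul (.l 2) (.l 15)) (.mul (.mul (.mul (.mul (.l 23) (.l 8)) (.l 20)) (.l 8)) (.l 23)) (.cons (.mul (.l 2) (.l 15)) (.mul (.mul (.mul (.mul (.mul (.l 4) (.l 23)) (.l 8)) (.l 20)) (.l 8)) (.l 23)) (.cons (.mul (.l 2) (.l 15)) (.mul (.mul (.mul (.mul (.l 23) (.l 8)) (.l 2)) (.l 23)) (.l 4)) .nil)))))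 (.node (.mul (.l 11) (.l 12)) (.node (.mul (.l 6) (.l 12)) (.cons (.l 8) (.mul (.mul (.mul (.mul (.mul (.mul (.l 5) (.l 23)) (.l 8)) (.l 2)) (.l 23)) (.l 12)) (.l 20)) (.cons (.mul (.l 2) (.l 8)) (.mul (.mul (.mul (.mul (.l 23) (.l 7)) (.l 4)) (.l 2)) (.l 23)) .nil)) (.node (.l 11) (.cons (.l 8) (.mul (.mul (.mul (.mul (.mul (.l 5) (.l 23)) (.l 8)) (.l 20)) (.l 2)) (.l 23)) .nil) (.cons (.mul (.l 2) (.l 15)) (.mul (.l 20) (.l 11)) (.cons (.mul (.l 2) (.l 15)) (.mul (.mul (.l 20) (.l 11)) (.l 5)) (.cons (.mul (.l 2) (.l 15)) (.mul (.mul (.mul (.mul (.l 23) (.l 8)) (.l 20)) (.l 2)) (.l 23)) .nil))))) (.node (.mul (.l 4) (.l 5)) (.cons (.mul (.l 2) (.l 15)) (.mul (.mul (.mul (.l 23) (.l 8)) (.l 2)) (.l 23)) (.cons (.mul (.l 2) (.l 15)) (.mul (.mul (.mul (.mul (.mul (.l 4) (.l 23)) (.l 2)) (.l 20)) (.l 8)) (.l 23)) (.cons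 (.mul (.l 2) (.l 15)) (.mul (.mul (.mul (.mul (.l 4) (.l 23)) (.l 8)) (.l 2)) (.l 23)) (.cons (.mul (.l 2) (.l 15)) (.mul (.mul (.mul (.mul (.l 23) (.l 2)) (.l 20)) (.l 8)) (.l 23)) .nil)))) (.node (.mul (.l 6) (.l 14)) (.cons (.l 8) (.mul (.mul (.mul (.mul (.l 27) (.l 23)) (.l 4)) (.l 2)) (.l 23)) (.cons (.l 8) (.mul (.mul (.mul (.mul (.l 23) (.l 7)) (.l 4)) (.l 2)) (.l 23)) .nil)) (.node (.mul (.l 9) (.l 14)) (.cons (.l 8) (.mul (.mul (.mul (.mul (.mul (.l 27) (.l 5)) (.l 23)) (.l 4)) (.l 2)) (.l 23)) (.cons (.l 8) (.mul (.mul (.mul (.mul (.mul (.l 23) (.l 8)) (.l 2)) (.l 23)) (.l 12)) (.l 20)) .nil)) (.node (.l 11) (.cons (.l 8) (.mul (.mul (.mul (.mul (.mul (.l 27) (.l 7)) (.l 23)) (.l 4)) (.l 2)) (.l 23)) .nil) (.cons (.mul (.l 2) (.l 15)) (.l 0) (.cons (.l 8) (.mul (.mul (.mul (.mul (.l 23) (.l 8)) (.l 20)) (.l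 8)) (.l 23)) (.cons (.l 8) (.mul (.mul (.mul (.mul (.l 23) (.l 8)) (.l 20)) (.l 2)) (.l 23)) (.cons (.mul (.l 2) (.l 15)) (.mul (.l 5) (.l 4)) (.cons (.mul (.l 2) (.l 15)) (.mul (.mul (.l 20) (.l 12)) (.l 4)) (.cons (.mul (.l 2) (.l 15)) (.l 4) (.cons (.mul (.l 2) (.l 15)) (.mul (.mul (.l 20) (.l 11)) (.l 4)) (.cons (.l 8) (.mul (.mul (.mul (.mul (.mul (.mul (.l 27) (.l 7)) (.l 5)) (.l 23)) (.l 4)) (.l 2)) (.l 23)) (.cons (.mul (.l 2) (.l 15)) (.mul (.mul (.l 12) (.l 20)) (.l 4)) (.cons (.mul (.l 2) (.l 15)) (.mul (.mul (.l 12) (.l 11)) (.l 4)) (.cons (.mul (.l 2) (.l 8)) (.mul (.mul (.mul (.mul (.l 23) (.l 8)) (.l 20)) (.l 2)) (.l 23)) (.cons (.mul (.l 2) (.l 15)) (.l 5) (.cons (.mul (.l 2) (.l 15)) (.mul (.mul (.mul (.mul (.l 23) (.l 8)) (.l 7)) (.l 4)) (.l 23)) .nil)))))))))))))))))))) (.node (.l 3) (.node (.mul (.l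 11) (.l 13)) (.node (.l 11) (.cons (.mul (.l 2) (.l 8)) (.mul (.mul (.mul (.mul (.l 4) (.l 23)) (.l 7)) (.l 2)) (.l 23)) (.cons (.l 8) (.mul (.mul (.mul (.mul (.mul (.l 21) (.l 4)) (.l 23)) (.l 7)) (.l 2)) (.l 23)) .nil)) (.node (.mul (.l 6) (.l 12)) (.cons (.mul (.l 2) (.l 8)) (.mul (.mul (.mul (.l 23) (.l 7)) (.l 2)) (.l 23)) (.cons (.l 8) (.mul (.mul (.mul (.mul (.mul (.l 5) (.l 23)) (.l 8)) (.l 21)) (.l 2)) (.l 23)) .nil)) (.node (.mul (.l 11) (.l 21)) (.cons (.mul (.l 2) (.l 15)) (.mul (.mul (.mul (.mul (.mul (.mul (.l 23) (.l 15)) (.l 4)) (.l 27)) (.l 2)) (.l 23)) (.l 5)) .nil) (.cons (.mul (.l 2) (.l 15)) (.mul (.mul (.l 25) (.l 13)) (.l 21)) (.cons (.mul (.l 2) (.l 15)) (.mul (.mul (.mul (.mul (.mul (.mul (.l 23) (.l 4)) (.l 23)) (.l 8)) (.l 7)) (.l 23)) (.l 5)) (.cons (.mul (.l 2) (.l 15)) (.mul (.mul (.mul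 (.l 25) (.l 13)) (.l 21)) (.l 5)) .nil)))))) (.node (.mul (.l 9) (.l 12)) (.cons (.l 8) (.mul (.mul (.mul (.mul (.mul (.l 23) (.l 8)) (.l 2)) (.l 23)) (.l 13)) (.l 21)) (.cons (.mul (.l 2) (.l 8)) (.mul (.mul (.mul (.mul (.mul (.l 23) (.l 7)) (.l 2)) (.l 23)) (.l 13)) (.l 21)) .nil)) (.node (.mul (.l 11) (.l 21)) (.cons (.mul (.l 2) (.l 15)) (.mul (.mul (.mul (.mul (.mul (.l 26) (.l 23)) (.l 4)) (.l 27)) (.l 2)) (.l 23)) .nil) (.cons (.mul (.l 2) (.l 15)) (.mul (.mul (.mul (.mul (.mul (.l 23) (.l 15)) (.l 4)) (.l 27)) (.l 2)) (.l 23)) (.cons (.mul (.l 2) (.l 8)) (.mul (.mul (.mul (.mul (.l 5) (.l 23)) (.l 7)) (.l 2)) (.l 23)) (.cons (.mul (.l 2) (.l 15)) (.mul (.mul (.mul (.l 25) (.l 13)) (.l 21)) (.l 4)) (.cons (.mul (.l 2) (.l 15)) (.mul (.mul (.mul (.l 25) (.l 4)) (.l 13)) (.l 21)) (.cons (.l 8) (.mul (.mul (.mul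 (.mul (.l 23) (.l 8)) (.l 21)) (.l 2)) (.l 23)) .nil)))))))) (.node (.l 5) (.node (.l 22) (.cons (.mul (.l 2) (.l 15)) (.mul (.mul (.mul (.mul (.mul (.mul (.l 23) (.l 2)) (.l 21)) (.l 16)) (.l 5)) (.l 23)) (.l 22)) (.cons (.mul (.l 2) (.l 15)) (.mul (.mul (.mul (.mul (.mul (.l 23) (.l 2)) (.l 13)) (.l 25)) (.l 8)) (.l 23)) (.cons (.mul (.l 2) (.l 15)) (.mul (.mul (.mul (.mul (.mul (.mul (.l 23) (.l 16)) (.l 5)) (.l 2)) (.l 23)) (.l 22)) (.l 4)) (.cons (.mul (.l 2) (.l 15)) (.mul (.mul (.mul (.mul (.mul (.mul (.l 23) (.l 24)) (.l 7)) (.l 4)) (.l 23)) (.l 7)) (.l 22)) .nil)))) (.cons (.mul (.l 2) (.l 15)) (.mul (.mul (.mul (.mul (.mul (.l 23) (.l 22)) (.l 8)) (.l 12)) (.l 2)) (.l 23)) (.cons (.mul (.l 2) (.l 15)) (.mul (.mul (.mul (.mul (.mul (.mul (.l 23) (.l 15)) (.l 5)) (.l 2)) (.l 23)) (.l 22)) (.l 4)) (.cons (.mul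 (.l 2) (.l 15)) (.mul (.mul (.mul (.mul (.mul (.l 23) (.l 22)) (.l 8)) (.l 20)) (.l 8)) (.l 23)) (.cons (.mul (.l 2) (.l 15)) (.mul (.mul (.mul (.mul (.mul (.l 23) (.l 5)) (.l 2)) (.l 23)) (.l 22)) (.l 4)) .nil))))) (.node (.l 9) (.cons (.mul (.l 2) (.l 15)) (.mul (.mul (.mul (.mul (.mul (.mul (.l 15) (.l 25)) (.l 4)) (.l 23)) (.l 8)) (.l 2)) (.l 23)) (.cons (.mul (.l 2) (.l 15)) (.mul (.mul (.mul (.mul (.mul (.l 15) (.l 25)) (.l 23)) (.l 8)) (.l 2)) (.l 23)) (.cons (.mul (.l 2) (.l 15)) (.mul (.mul (.mul (.mul (.mul (.l 26) (.l 25)) (.l 23)) (.l 8)) (.l 2)) (.l 23)) (.cons (.mul (.l 2) (.l 15)) (.mul (.mul (.mul (.mul (.mul (.mul (.l 23) (.l 2)) (.l 13)) (.l 5)) (.l 23)) (.l 22)) (.l 4)) .nil)))) (.cons (.mul (.l 2) (.l 15)) (.mul (.mul (.mul (.mul (.l 25) (.l 23)) (.l 8)) (.l 2)) (.l 23)) (.cons (.mul (.l 2) (.l 15))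 (.mul (.mul (.mul (.mul (.mul (.l 25) (.l 4)) (.l 23)) (.l 8)) (.l 2)) (.l 23)) (.cons (.mul (.l 2) (.l 15)) (.mul (.mul (.mul (.mul (.mul (.l 25) (.l 23)) (.l 2)) (.l 20)) (.l 8)) (.l 23)) (.cons (.mul (.l 2) (.l 15)) (.mul (.mul (.mul (.mul (.mul (.mul (.l 25) (.l 4)) (.l 23)) (.l 2)) (.l 20)) (.l 8)) (.l 23)) .nil))))))))

def ct1 : CT := .node (.l 2) (.node (.l 4) (.node (.l 5) (.node (.l 7) (.node (.l 8) (.cons (.l 0) (.l 0) (.cons (.l 1) (.l 0) .nil)) (.cons (.l 1) (.mul (.mul (.mul (.l 23) (.l 5)) (.l 4)) (.l 23)) (.cons (.l 1) (.mul (.mul (.mul (.mul (.l 8) (.l 23)) (.l 5)) (.l 4)) (.l 23)) .nil))) (.node (.l 8) (.cons (.l 1) (.mul (.mul (.mul (.mul (.l 7) (.l 23)) (.l 4)) (.l 2)) (.l 23)) (.cons (.l 1) (.mul (.mul (.mul (.l 23) (.l 4)) (.l 2)) (.l 23)) .nil)) (.cons (.l 1) (.mul (.mul (.mul (.l 23) (.l 5)) (.l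 2)) (.l 23)) (.cons (.l 1) (.mul (.mul (.mul (.mul (.l 7) (.l 23)) (.l 5)) (.l 2)) (.l 23)) .nil)))) (.node (.l 7) (.node (.l 8) (.cons (.l 1) (.mul (.mul (.mul (.l 23) (.l 8)) (.l 2)) (.l 23)) (.cons (.l 1) (.mul (.mul (.mul (.mul (.l 5) (.l 23)) (.l 8)) (.l 2)) (.l 23)) .nil)) (.cons (.l 1) (.mul (.mul (.mul (.mul (.l 24) (.l 23)) (.l 5)) (.l 4)) (.l 23)) (.cons (.l 1) (.mul (.mul (.mul (.mul (.l 23) (.l 21)) (.l 4)) (.l 2)) (.l 23)) .nil))) (.node (.l 8) (.cons (.l 1) (.mul (.mul (.mul (.l 23) (.l 8)) (.l 4)) (.l 23)) (.cons (.l 1) (.mul (.mul (.mul (.mul (.l 5) (.l 23)) (.l 8)) (.l 4)) (.l 23)) .nil)) (.cons (.l 1) (.mul (.mul (.mul (.mul (.l 24) (.l 23)) (.l 5)) (.l 2)) (.l 23)) (.cons (.l 1) (.mul (.mul (.mul (.mul (.l 23) (.l 8)) (.l 5)) (.l 2)) (.l 23)) .nil))))) (.node (.l 5) (.node (.l 7) (.node (.l 8) (.cons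 (.l 1) (.mul (.mul (.mul (.mul (.l 4) (.l 23)) (.l 8)) (.l 7)) (.l 23)) (.cons (.l 1) (.mul (.mul (.mul (.l 23) (.l 8)) (.l 7)) (.l 23)) .nil)) (.cons (.l 1) (.mul (.mul (.mul (.mul (.l 23) (.l 14)) (.l 5)) (.l 2)) (.l 23)) (.cons (.l 1) (.mul (.mul (.mul (.mul (.mul (.l 24) (.l 25)) (.l 23)) (.l 4)) (.l 2)) (.l 23)) .nil))) (.node (.l 8) (.cons (.l 1) (.mul (.mul (.mul (.mul (.mul (.l 27) (.l 7)) (.l 23)) (.l 4)) (.l 2)) (.l 23)) (.cons (.l 1) (.mul (.mul (.mul (.mul (.l 27) (.l 23)) (.l 4)) (.l 2)) (.l 23)) .nil)) (.cons (.l 1) (.mul (.mul (.mul (.mul (.l 23) (.l 12)) (.l 5)) (.l 2)) (.l 23)) (.cons (.l 1) (.mul (.mul (.mul (.mul (.mul (.l 24) (.l 23)) (.l 7)) (.l 5)) (.l 2)) (.l 23)) .nil)))) (.node (.l 7) (.node (.l 8) (.cons (.l 1) (.mul (.mul (.mul (.l 23) (.l 7)) (.l 2)) (.l 23)) (.cons (.l 1) (.mul (.mul (.mul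 (.mul (.l 4) (.l 23)) (.l 7)) (.l 2)) (.l 23)) .nil)) (.cons (.l 1) (.mul (.mul (.mul (.mul (.mul (.l 25) (.l 7)) (.l 23)) (.l 4)) (.l 2)) (.l 23)) (.cons (.l 1) (.mul (.mul (.mul (.mul (.l 25) (.l 23)) (.l 4)) (.l 2)) (.l 23)) .nil))) (.node (.l 8) (.cons (.l 1) (.mul (.mul (.mul (.mul (.l 23) (.l 7)) (.l 4)) (.l 2)) (.l 23)) (.cons (.l 1) (.mul (.mul (.mul (.mul (.mul (.l 4) (.l 23)) (.l 7)) (.l 4)) (.l 2)) (.l 23)) .nil)) (.cons (.l 1) (.mul (.mul (.mul (.mul (.mul (.l 4) (.l 23)) (.l 7)) (.l 5)) (.l 2)) (.l 23)) (.cons (.l 1) (.mul (.mul (.mul (.mul (.l 23) (.l 7)) (.l 5)) (.l 2)) (.l 23)) .nil)))))) (.node (.l 16) (.node (.l 12) (.node (.l 13) (.node (.l 20) (.cons (.l 1) (.mul (.l 2) (.l 23)) (.cons (.l 1) (.l 23) .nil)) (.cons (.l 1) (.mul (.mul (.l 8) (.l 2)) (.l 23)) (.cons (.l 1) (.mul (.l 8) (.l 23)) .nil)))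 (.node (.l 21) (.cons (.l 1) (.mul (.mul (.l 26) (.l 4)) (.l 23)) (.cons (.l 1) (.mul (.mul (.l 8) (.l 7)) (.l 23)) .nil)) (.cons (.l 1) (.mul (.mul (.l 7) (.l 2)) (.l 23)) (.cons (.l 1) (.mul (.l 7) (.l 23)) .nil)))) (.node (.l 13) (.node (.l 22) (.cons (.l 1) (.mul (.l 4) (.l 23)) (.cons (.l 1) (.mul (.mul (.l 4) (.l 2)) (.l 23)) .nil)) (.cons (.l 1) (.mul (.mul (.l 8) (.l 4)) (.l 23)) (.cons (.l 1) (.mul (.mul (.l 12) (.l 4)) (.l 23)) .nil))) (.node (.l 20) (.cons (.l 1) (.mul (.mul (.mul (.l 7) (.l 4)) (.l 2)) (.l 23)) (.cons (.l 1) (.mul (.mul (.l 7) (.l 4)) (.l 23)) .nil)) (.cons (.l 1) (.mul (.mul (.l 27) (.l 4)) (.l 23)) (.cons (.l 1) (.mul (.mul (.mul (.l 27) (.l 4)) (.l 2)) (.l 23)) .nil))))) (.node (.l 22) (.node (.l 21) (.node (.l 20) (.cons (.l 1) (.mul (.mul (.l 7) (.l 5)) (.l 23)) (.cons (.l 1) (.mul (.mul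 (.mul (.l 7) (.l 5)) (.l 2)) (.l 23)) .nil)) (.cons (.l 1) (.mul (.mul (.l 8) (.l 5)) (.l 23)) (.cons (.l 1) (.mul (.mul (.mul (.l 8) (.l 5)) (.l 2)) (.l 23)) .nil))) (.node (.l 23) (.cons (.l 1) (.mul (.mul (.l 21) (.l 4)) (.l 23)) (.cons (.l 1) (.mul (.mul (.l 25) (.l 4)) (.l 23)) .nil)) (.cons (.l 1) (.mul (.mul (.mul (.l 21) (.l 4)) (.l 2)) (.l 23)) (.cons (.l 1) (.mul (.mul (.mul (.l 25) (.l 4)) (.l 2)) (.l 23)) .nil)))) (.node (.l 23) (.node (.l 25) (.cons (.l 1) (.mul (.mul (.l 13) (.l 5)) (.l 23)) (.cons (.l 1) (.mul (.mul (.l 14) (.l 5)) (.l 23)) .nil)) (.cons (.l 1) (.mul (.mul (.l 12) (.l 5)) (.l 23)) (.cons (.l 1) (.mul (.l 5) (.l 23)) .nil))) (.node (.l 25) (.cons (.l 1) (.mul (.mul (.l 5) (.l 4)) (.l 23)) (.cons (.l 1) (.mul (.mul (.mul (.l 14) (.l 5)) (.l 2)) (.l 23)) .nil)) (.cons (.l 1) (.mul (.mul (.mul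 (.l 12) (.l 5)) (.l 2)) (.l 23)) (.cons (.l 1) (.mul (.mul (.l 5) (.l 2)) (.l 23)) .nil))))))

def ct2 : CT := .node (.l 4) (.node (.l 5) (.node (.l 7) (.node (.l 8) (.cons (.l 2) (.l 0) (.cons (.l 2) (.l 11) .nil)) (.cons (.mul (.l 2) (.l 3)) (.mul (.l 26) (.l 25)) (.cons (.mul (.l 2) (.l 3)) (.mul (.l 13) (.l 22)) .nil))) (.node (.l 8) (.cons (.mul (.l 2) (.l 3)) (.mul (.l 27) (.l 20)) (.cons (.mul (.l 2) (.l 3)) (.mul (.mul (.l 27) (.l 20)) (.l 5)) .nil)) (.cons (.mul (.l 2) (.l 3)) (.l 22) (.cons (.mul (.l 2) (.l 3)) (.mul (.l 22) (.l 5)) .nil)))) (.node (.l 7) (.node (.l 8) (.cons (.mul (.l 2) (.l 3)) (.l 0) (.cons (.mul (.l 2) (.l 3)) (.l 5) .nil)) (.cons (.mul (.l 2) (.l 3)) (.mul (.l 25) (.l 20)) (.cons (.mul (.l 2) (.l 3)) (.mul (.mul (.l 25) (.l 20)) (.l 5)) .nil))) (.node (.l 8) (.cons (.mul (.l 2) (.l 3))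 (.mul (.mul (.l 26) (.l 21)) (.l 5)) (.cons (.mul (.l 2) (.l 3)) (.mul (.l 26) (.l 21)) .nil)) (.cons (.mul (.l 2) (.l 3)) (.mul (.l 24) (.l 22)) (.cons (.mul (.l 2) (.l 3)) (.mul (.l 16) (.l 22)) .nil))))) (.node (.l 5) (.node (.l 7) (.node (.l 8) (.cons (.mul (.l 2) (.l 3)) (.mul (.mul (.l 13) (.l 21)) (.l 5)) (.cons (.mul (.l 2) (.l 3)) (.mul (.l 13) (.l 21)) .nil)) (.cons (.mul (.l 2) (.l 3)) (.mul (.l 15) (.l 22)) (.cons (.mul (.l 2) (.l 3)) (.mul (.l 14) (.l 22)) .nil))) (.node (.l 8) (.cons (.mul (.l 2) (.l 3)) (.l 20) (.cons (.mul (.l 2) (.l 3)) (.mul (.l 20) (.l 5)) .nil)) (.cons (.mul (.l 2) (.l 3)) (.l 25) (.cons (.mul (.l 2) (.l 3)) (.mul (.l 25) (.l 5)) .nil)))) (.node (.l 7) (.node (.l 8) (.cons (.mul (.l 2) (.l 3)) (.mul (.l 21) (.l 5)) (.cons (.mul (.l 2) (.l 3)) (.l 21) .nil)) (.cons (.mul (.l 2) (.l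 3)) (.mul (.l 13) (.l 25)) (.cons (.mul (.l 2) (.l 3)) (.mul (.l 21) (.l 20)) .nil))) (.node (.l 8) (.cons (.mul (.l 2) (.l 3)) (.mul (.l 12) (.l 20)) (.cons (.mul (.l 2) (.l 3)) (.mul (.mul (.l 12) (.l 20)) (.l 5)) .nil)) (.cons (.mul (.l 2) (.l 3)) (.mul (.l 24) (.l 25)) (.cons (.mul (.l 2) (.l 3)) (.mul (.l 15) (.l 25)) .nil)))))

def ct3 : CT := .node (.l 4) (.node (.l 5) (.node (.l 7) (.cons (.mul (.l 2) (.l 8)) (.l 0) (.cons (.mul (.l 2) (.l 8)) (.l 9) .nil)) (.cons (.mul (.mul (.l 2) (.l 8)) (.l 10)) (.l 27) (.cons (.mul (.mul (.l 2) (.l 8)) (.l 10)) (.mul (.l 27) (.l 4)) .nil))) (.node (.l 7) (.cons (.mul (.l 2) (.l 8)) (.mul (.l 11) (.l 9)) (.cons (.mul (.l 2) (.l 8)) (.l 11) .nil)) (.cons (.mul (.mul (.l 2) (.l 8)) (.l 10)) (.mul (.mul (.l 27) (.l 11)) (.l 4)) (.cons (.mul (.mul (.l 2) (.l 8)) (.l 10)) (.mul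 (.l 27) (.l 11)) .nil)))) (.node (.l 5) (.node (.l 7) (.cons (.mul (.mul (.l 2) (.l 8)) (.l 10)) (.mul (.l 26) (.l 27)) (.cons (.mul (.mul (.l 2) (.l 8)) (.l 10)) (.mul (.mul (.l 26) (.l 27)) (.l 4)) .nil)) (.cons (.mul (.mul (.l 2) (.l 8)) (.l 10)) (.l 0) (.cons (.mul (.mul (.l 2) (.l 8)) (.l 10)) (.l 4) .nil))) (.node (.l 7) (.cons (.mul (.mul (.l 2) (.l 8)) (.l 10)) (.mul (.mul (.l 15) (.l 27)) (.l 4)) (.cons (.mul (.mul (.l 2) (.l 8)) (.l 10)) (.mul (.l 15) (.l 27)) .nil)) (.cons (.mul (.mul (.l 2) (.l 8)) (.l 10)) (.mul (.l 11) (.l 4)) (.cons (.mul (.mul (.l 2) (.l 8)) (.l 10)) (.l 11) .nil))))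

def ct4 : CT := .node (.l 4) (.node (.l 5) (.node (.l 7) (.cons (.l 8) (.l 0) (.cons (.l 8) (.l 9) .nil)) (.cons (.mul (.l 8) (.l 10)) (.l 27) (.cons (.mul (.l 8) (.l 10)) (.mul (.l 27) (.l 4)) .nil))) (.node (.l 7) (.cons (.l 8) (.l 11) (.cons (.l 8) (.mul (.l 11) (.l 9)) .nil)) (.cons (.mul (.l 8) (.l 10)) (.mul (.l 27) (.l 11)) (.cons (.mul (.l 8) (.l 10)) (.mul (.mul (.l 27) (.l 11)) (.l 4)) .nil)))) (.node (.l 5) (.node (.l 7) (.cons (.mul (.l 8) (.l 10)) (.mul (.l 26) (.l 27)) (.cons (.mul (.l 8) (.l 10)) (.mul (.mul (.l 26) (.l 27)) (.l 4)) .nil)) (.cons (.mul (.l 8) (.l 10)) (.l 0) (.cons (.mul (.l 8) (.l 10)) (.l 4) .nil))) (.node (.l 7) (.cons (.mul (.l 8) (.l 10)) (.mul (.mul (.l 15) (.l 27)) (.l 4)) (.cons (.mul (.l 8) (.l 10)) (.mul (.l 15) (.l 27)) .nil)) (.cons (.mul (.l 8) (.l 10)) (.l 11) (.cons (.mul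 (.l 8) (.l 10)) (.mul (.l 11) (.l 4)) .nil))))

def ct5 : CT := .cons (.mul (.l 2) (.l 15)) (.l 0) (.cons (.mul (.l 2) (.l 15)) (.l 11) (.cons (.mul (.l 2) (.l 15)) (.mul (.l 11) (.l 9)) (.cons (.mul (.l 2) (.l 15)) (.mul (.l 9) (.l 6)) (.cons (.mul (.l 2) (.l 15)) (.l 9) (.cons (.mul (.l 2) (.l 15)) (.mul (.mul (.l 5) (.l 11)) (.l 5)) (.cons (.mul (.l 2) (.l 15)) (.mul (.l 11) (.l 6)) (.cons (.mul (.l 2) (.l 15)) (.l 6) .nil)))))))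

/-- representatives of the classes of involutions -/
def reps : List W := [.l 0, .l 1, .l 2, .mul (.l 2) (.l 3), .mul (.l 2) (.l 8), .mul (.mul (.l 2) (.l 8)) (.l 10), .l 8, .mul (.l 8) (.l 10), .mul (.l 2) (.l 15)]

/-- representatives for the complement -/
def reps1 : List W := [.l 0, .l 2, .mul (.l 2) (.l 8), .l 8, .mul (.l 2) (.l 15)]

/-- the check of a tree -/
noncomputable def ctB (k j : ℕ) (r : W) (T : CT) (l : List W) : Bool :=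
  band (PN.eval (.all k 40 [] (.lt 41 (.mul (.l 40) r) (.imp (.mem j (.mul (.l 41) (.l 41))) (T.fm 41)))))
    (band (T.over l) (avoid 40 r && l.all fun t => avoid 40 t && avoid 41 t))

theorem of_ctB {k j : ℕ} {r : W} {T : CT} {l : List W} (e : ctB k j r T l = true) {v : P92} (m : v ∈ PN.K k)
    (h : v * r.ev PN.gam * (v * r.ev PN.gam) ∈ PN.K j) : ∃ x ∈ l, ∃ g ∈ PN.K 0, cj g (x.ev PN.gam) = v * r.ev PN.gam := by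
  simp only [ctB, band_eq_true, Bool.and_eq_true, List.all_eq_true] at e
  have f := PN_ok.holds e.1 v m
  simp only [imps, Fm.holds, ev_mul, ev_l, upd_self, ev_upd e.2.2.1] at f
  obtain ⟨x, a, g, b, c⟩ := CT.ex (H := PN.K 0) (upd_forall (P := fun _ x => x ∈ PN.K 0)
    (upd_forall (P := fun _ x => x ∈ PN.K 0) PN_ok.mem (PN_ok.le k m)) (mul_mem (PN_ok.le k m) (ev_mem_of_forall PN_ok.mem r))) e.2.1 (f h)
  rw [upd_self, ev_upd (e.2.2.2 x a).2, ev_upd (e.2.2.2 x a).1] at c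
  exact ⟨x, a, g, b, (eq_mul_inv_of_mul_eq c).symm⟩

theorem ctB0 : ctB 8 3 (.l 0) ct0 reps1 = true := by decide +kernel

theorem ctB1 : ∀ r ∈ reps1, ∃ T ∈ [ct1, ct2, ct3, ct4, ct5], ctB 3 30 r T reps = true := by decide +kernel

theorem mle (i j : ℕ) (e : allP (PN.ws i) (fun t => PN.eval (.mem j t)) = true := by decide +kernel) : PN.K i ≤ PN.K j :=
  genW_le.2 fun t ht => PN_ok.holds (allP_iff.1 e t ht)

theorem mnorm (i j : ℕ) (e : allP (PN.ws i) (fun a => allP (PN.ws j) fun b => PN.eval (.mem j (T3.cj a b))) = true := by decide +kernel) :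
    PN.K i ≤ 𝐍(PN.K j) := genW_le_normalizer fun a ha b hb => PN_ok.holds (allP_iff.1 (allP_iff.1 e a ha) b hb)

theorem mn03 : PN.K 0 ≤ 𝐍(PN.K 3) := mnorm 0 3

theorem nc0 {v : P92} (m : v ∈ PN.K 1) (h : v * v = 1) : ∃ x ∈ reps, ∃ g ∈ PN.K 0, cj g (x.ev PN.gam) = v := by
  have l : PN.K 1 ≤ PN.K 3 ⊔ PN.K 8 := genW_le.2 fun t ht => by
    obtain ⟨e, f⟩ := Bool.and_eq_true_iff.1 ((by decide +kernel : ∀ t ∈ PN.ws 1,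
      (PN.eval (.ex 3 40 [] (.mem 8 (.mul (.l 40) t))) && avoid 40 t) = true) t ht)
    obtain ⟨a, b, c⟩ := PN_ok.holds e
    simp only [ands, Fm.holds, ev_mul, ev_l, upd_self, ev_upd f] at c
    exact (mul_mem_cancel_left (mem_sup_left b)).1 (mem_sup_right c)
  obtain ⟨a, b, k, c, rfl⟩ := (mem_sup_left_norm ((PN_ok.le 8).trans mn03)).1 (l m)
  have z : W.ev PN.gam (.l 0) = 1 := PN_ok.zero
  obtain ⟨r, i, g, j, e⟩ := of_ctB ctB0 c (by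
    rw [z, mul_one, ← mul_mem_cancel_left (mul_mem b ((cj_norm (mn03 (PN_ok.le 8 c))).2 b)),
      show a * cj k a * (k * k) = a * k * (a * k) by simp only [cj]; group, h]
    exact one_mem _)
  rw [z, mul_one] at e
  obtain ⟨T, -, f⟩ := ctB1 r i
  have o : cj g (cj g⁻¹ a * r.ev PN.gam) = a * k := by rw [cj_mul, cj_cj_inv, e]
  obtain ⟨x, i', g', j', e'⟩ := of_ctB f ((cj_norm (inv_mem (mn03 j))).2 b) (by
    rw [cj_eq_one.1 ((cj_mul g _ _).trans (o ▸ h))]; exact one_mem _)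
  exact ⟨x, i', _, mul_mem j j', by rw [← cj_cj, e', o]⟩

end Cfsg.Lib.F6
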